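import Groth.Agent.TorsCoreflLib.Basic
import Groth.Agent.DComplLib.Completion
import Groth.Agent.DComplLib.FiniteCompl
import Groth.Agent.ProDerLib.Amplitude

/-! Greenlees-May duality between torsion and complete objects over a Noetherian ring. -/

set_option autoImplicit false
set_option backward.isDefEq.respectTransparency false
set_option linter.style.haveILetI false

universe u

open CategoryTheory Limits Pretriangulated
attribute [local instance] HasDerivedCategory.standard

noncomputable section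

namespace Groth.Agent.TorsCoreflLib

open Groth.Agent.DComplLib

variable {A : Type u} [CommRing A] (I : Ideal A)

/-- Torsion cohomology. -/
abbrev PT (L : Dual.D A) : Prop := ∀ i : ℤ, LocCoh.IsPowerTorsion I (Dual.HD A L i)

/-- No maps from objects with torsion cohomology. -/
def NoTors (X : Dual.D A) : Prop := ∀ T : Dual.D A, PT I T → ∀ g : T ⟶ X, g = 0

/-- No maps to complete objects. -/
def NoCompl (X : Dual.D A) : Prop := ∀ E : Dual.D A, (I : Set A) ⊆ dcIdealD E → ∀ g : X ⟶ E, g = 0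

/-- The radical of the annihilator of all cohomology. -/
def bd (X : Dual.D A) : Ideal A := (⨅ n : ℤ, Module.annihilator A (Dual.HD A X n)).radical

theorem mem_annHD {X : Dual.D A} {a : A} :
    a ∈ (⨅ n : ℤ, Module.annihilator A (Dual.HD A X n)) ↔ ∀ (n : ℤ) (z : Dual.HD A X n), a • z = 0 := by
  rw [Submodule.mem_iInf]
  exact forall_congr' fun n => Module.mem_annihilator

theorem bd_le_dcIdealD (X : Dual.D A) : bd X ≤ dcIdealD X :=
  ((dcIdealD_isRadical X).radical_le_iff).2 fun a ha => mem_dcIdealD.2 fun n =>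
    (dc_iff_of_smul_eq (B := A) (g := (0 : A)) (f := a) fun m => by
      rw [zero_smul, mem_annHD.1 ha n m]).1 dc_zero

theorem tors_of_le_bd [IsNoetherianRing A] {X : Dual.D A} (h : I ≤ bd X) : PT I X := fun i m => by
  obtain ⟨N, hN⟩ := Ideal.exists_pow_le_of_le_radical_of_fg
    (h.trans (Ideal.radical_mono (iInf_le _ i))) (IsNoetherian.noetherian I)
  exact ⟨N, fun a ha => Module.mem_annihilator.1 (hN ha) m⟩

theorem isPowerTorsion_equiv {M N : Type u} [AddCommGroup M] [Module A M] [AddCommGroup N] [Module A N]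
    (e : M ≃ₗ[A] N) (h : LocCoh.IsPowerTorsion I N) : LocCoh.IsPowerTorsion I M := fun m => by
  obtain ⟨n, hn⟩ := h (e m)
  exact ⟨n, fun a ha => e.injective (by rw [map_smul, hn a ha, map_zero])⟩

theorem map_smul_id (f : A) (X : Dual.D A) (j : ℤ) :
    (DerivedCategory.homologyFunctor (ModuleCat.{u} A) j).map (f • 𝟙 X) = f • 𝟙 _ := by
  let K := DerivedCategory.Q.objPreimage X
  let e := DerivedCategory.Q.objObjPreimageIso X
  rw [show f • 𝟙 X = e.inv ≫ DerivedCategory.Q.map (f • 𝟙 K) ≫ e.hom by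
    rw [Functor.map_smul, CategoryTheory.Functor.map_id, Linear.smul_comp, Category.id_comp, Linear.comp_smul,
      e.inv_hom_id]]
  rw [Functor.map_comp, Functor.map_comp]
  have h1 : (DerivedCategory.homologyFunctor (ModuleCat.{u} A) j).map (DerivedCategory.Q.map (f • 𝟙 K)) = f • 𝟙 _ := by
    rw [← cancel_mono (hQIso K j).hom, hQIso_natural, homologyMap_smul', HomologicalComplex.homologyMap_id,
      Linear.comp_smul, Category.comp_id, Linear.smul_comp, Category.id_comp]
  rw [h1, Linear.smul_comp, Category.id_comp, Linear.comp_smul, ← Functor.map_comp, e.inv_hom_id,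
    CategoryTheory.Functor.map_id]

theorem tors_shift {T : Dual.D A} (hT : PT I T) (m : ℤ) : PT I (T⟦m⟧) := fun n =>
  isPowerTorsion_equiv I
    ((hShiftEquiv (T⟦m⟧) n).symm ≪≫ₗ
      ((DerivedCategory.homologyFunctor (ModuleCat.{u} A) 0).mapIso
        ((shiftFunctorAdd' (Dual.D A) m n (m + n) rfl).symm.app T)).toLinearEquiv ≪≫ₗ
      hShiftEquiv T (m + n)) (hT (m + n))

theorem NoTors.shift {X : Dual.D A} (h : NoTors I X) (m : ℤ) : NoTors I (X⟦m⟧) := fun T hT g => by
  let adj := (shiftEquiv (Dual.D A) m).symm.toAdjunction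
  exact (adj.homEquiv T X).symm.injective
    ((h _ (tors_shift I hT (-m)) _).trans (h _ (tors_shift I hT (-m)) _).symm)

theorem NoCompl.shift {X : Dual.D A} (h : NoCompl I X) (m : ℤ) : NoCompl I (X⟦m⟧) := fun E hE g => by
  let adj := (shiftEquiv (Dual.D A) m).toAdjunction
  exact (adj.homEquiv X E).injective
    ((h _ (fun f hf => mem_dcIdealD_shift (hE hf) (-m)) _).trans
      (h _ (fun f hf => mem_dcIdealD_shift (hE hf) (-m)) _).symm)

theorem exists_cone (f : A) (X : Dual.D A) : ∃ (C : Dual.D A) (π : X ⟶ C) (δ : C ⟶ X⟦(1 : ℤ)⟧),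
    Triangle.mk (f • 𝟙 X) π δ ∈ distTriang _ ∧ bd X ≤ bd C ∧ f ∈ bd C := by
  obtain ⟨C, π, δ, hT⟩ := distinguished_cocone_triangle (f • 𝟙 X)
  refine ⟨C, π, δ, hT, ?_⟩
  have key : ∀ (n : ℤ) (a : A) (z : Dual.HD A C n),
      (∀ x : Dual.HD A X (n + 1), f • x = 0 → a • x = 0) →
      (∀ x : Dual.HD A X n, ∃ y : Dual.HD A X n, a • x = f • y ∨ a • x = 0) → a • a • z = 0 := by
    intro n a z h1 h2
    have hsm : ∀ (j : ℤ) (x : Dual.HD A X j),
        ((DerivedCategory.homologyFunctor (ModuleCat.{u} A) j).map (f • 𝟙 X)).hom x = f • x := fun j x => by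
      rw [map_smul_id]; rfl
    have e3 := (ShortComplex.ShortExact.moduleCat_exact_iff_function_exact _).1
      (DerivedCategory.HomologySequence.exact₃ _ hT n (n + 1))
    have e1 := (ShortComplex.ShortExact.moduleCat_exact_iff_function_exact _).1
      (DerivedCategory.HomologySequence.exact₁ _ hT n (n + 1))
    have e2 := (ShortComplex.ShortExact.moduleCat_exact_iff_function_exact _).1
      (DerivedCategory.HomologySequence.exact₂ _ hT n)
    let δn := (DerivedCategory.HomologySequence.δ (Triangle.mk (f • 𝟙 X) π δ) n (n + 1) rfl).hom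
    have hfδ : f • δn z = 0 := (hsm (n + 1) _).symm.trans ((e1 _).2 ⟨z, rfl⟩)
    obtain ⟨w, hw⟩ := (e3 (a • z)).1 (by
      show δn (a • z) = 0
      rw [map_smul]
      exact h1 _ hfδ)
    rw [← hw]
    refine (map_smul _ a w).symm.trans ?_
    obtain ⟨y, hy | hy⟩ := h2 w
    · exact (congrArg _ (hy.trans (hsm n y).symm)).trans ((e2 _).2 ⟨y, rfl⟩)
    · exact (congrArg _ hy).trans (map_zero _)
  constructor
  · refine (Ideal.radical_isRadical _).radical_le_iff.2 fun a ha => ⟨2, mem_annHD.2 fun n z => ?_⟩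
    rw [pow_two, mul_smul]
    exact key n a z (fun x _ => mem_annHD.1 ha (n + 1) x) fun x => ⟨0, Or.inr (mem_annHD.1 ha n x)⟩
  · refine ⟨2, mem_annHD.2 fun n z => ?_⟩
    rw [pow_two, mul_smul]
    exact key n f z (fun x hx => hx) fun x => ⟨x, Or.inl rfl⟩

theorem NoTors.cone {X C : Dual.D A} {a : X ⟶ X} {π : X ⟶ C} {δ : C ⟶ X⟦(1 : ℤ)⟧}
    (hT : Triangle.mk a π δ ∈ distTriang _) (h : NoTors I X) : NoTors I C := fun T hTT g => by
  obtain ⟨k, hk⟩ := Triangle.coyoneda_exact₃ _ hT g (h.shift I 1 T hTT _)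
  rw [hk, h T hTT k, zero_comp]

theorem NoCompl.cone {X C : Dual.D A} {a : X ⟶ X} {π : X ⟶ C} {δ : C ⟶ X⟦(1 : ℤ)⟧}
    (hT : Triangle.mk a π δ ∈ distTriang _) (h : NoCompl I X) : NoCompl I C := fun E hE g => by
  obtain ⟨k, hk⟩ := Triangle.yoneda_exact₃ _ hT g (h E hE _)
  rw [hk, h.shift I 1 E hE k, comp_zero]

variable [IsNoetherianRing A]

theorem noCompl_of_noTors {X : Dual.D A} (h : NoTors I X) : NoCompl I X := by
  suffices H : ∀ (l : List A), (∀ x ∈ l, x ∈ I) → ∀ Y : Dual.D A, I ≤ bd Y ⊔ Ideal.ofList l → NoTors I Y →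
      NoCompl I Y by
    obtain ⟨l, hl⟩ := Groth.Agent.DualCxLib.ofList_toList_fg I
    exact H l (fun x hx => hl ▸ Ideal.subset_span hx) X (le_sup_of_le_right hl.ge) h
  intro l
  induction l with
  | nil =>
    intro _ Y hY h E _ g
    rw [Ideal.ofList_nil, sup_bot_eq] at hY
    rw [← Category.id_comp g, h Y (tors_of_le_bd I hY) (𝟙 Y), zero_comp]
  | cons f l ih =>
    intro hl Y hY h
    obtain ⟨C, π, δ, hT, hb, hf⟩ := exists_cone f Y
    have hC : NoCompl I C := ih (fun x hx => hl x (List.mem_cons_of_mem f hx)) C (hY.trans (by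
      rw [Ideal.ofList_cons]
      exact sup_le (hb.trans le_sup_left) (sup_le (((Ideal.span_singleton_le_iff_mem _).2 hf).trans le_sup_left)
        le_sup_right))) (NoTors.cone I hT h)
    intro E hE g
    have hdiv : ∀ k : Y ⟶ E, ∃ k', k = f • k' := fun k => by
      obtain ⟨m, hm⟩ := Triangle.yoneda_exact₂ _ (inv_rot_of_distTriang _ hT) k (by
        exact NoCompl.shift I hC (-1) E hE _)
      exact ⟨m, hm.trans ((Linear.smul_comp _ _ _ f (𝟙 Y) m).trans (congrArg (f • ·) (Category.id_comp m)))⟩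
    choose d hd using hdiv
    exact (dc_hom Y E (mem_dcIdealD.1 (hE (hl f List.mem_cons_self)))).eq_zero
      (x := fun k => Nat.rec g (fun _ p => d p) k) (fun k => hd _) 0

/-- The descending step. -/
theorem noTors_of_cone [DRing.HasRgammaI I] {f : A} (hfI : f ∈ I) {Y C : Dual.D A} {π : Y ⟶ C}
    {δ : C ⟶ Y⟦(1 : ℤ)⟧} (hT : Triangle.mk (f • 𝟙 Y) π δ ∈ distTriang _) (hC : NoTors I C) : NoTors I Y := by
  let R := (DRing.RgammaI I).obj Y
  let ε := (DRing.RgammaIε I).app Y
  have hR : PT I R := torsion_RgammaI I Y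
  obtain ⟨m, hm⟩ := Triangle.coyoneda_exact₂ _ hT ε (hC R hR _)
  obtain ⟨e, he⟩ := (comp_ε_bijective I R Y hR).2 m
  have h1 : f • e = 𝟙 R := (comp_ε_bijective I R Y hR).1 (by
    show (f • e) ≫ ε = 𝟙 R ≫ ε
    rw [Category.id_comp, Linear.smul_comp, show e ≫ ε = m from he]
    exact (hm.trans ((Linear.comp_smul _ _ _ m f (𝟙 Y)).trans (congrArg (f • ·) (Category.comp_id m)))).symm)
  have hR0 : IsZero R := by
    refine Groth.Agent.ProDerLib.isZero_of_homology R fun n => ?_
    haveI : Subsingleton ((DerivedCategory.homologyFunctor (ModuleCat.{u} A) n).obj R) :=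
      subsingleton_of_forall_eq 0 fun z => by
        obtain ⟨N, hN⟩ := hR n z
        let E := ((DerivedCategory.homologyFunctor (ModuleCat.{u} A) n).map e).hom
        have hE : ∀ x, f • E x = x := fun x => by
          have := congrArg (fun φ => ((DerivedCategory.homologyFunctor (ModuleCat.{u} A) n).map φ).hom x) h1
          simp only [CategoryTheory.Functor.map_id] at this
          rw [show f • e = (f • 𝟙 R) ≫ e by rw [Linear.smul_comp, Category.id_comp], Functor.map_comp,
            map_smul_id] at this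
          exact ((map_smul E f x).symm).trans this
        have hk : ∀ k : ℕ, ∃ w, z = f ^ k • w ∧ ∀ a ∈ I ^ N, a • w = 0 := fun k => by
          induction k with
          | zero => exact ⟨z, by rw [pow_zero, one_smul], hN⟩
          | succ k ih =>
            obtain ⟨w, hw, hw0⟩ := ih
            exact ⟨E w, by rw [pow_succ, mul_smul, hE, hw], fun a ha => by rw [← map_smul, hw0 a ha, map_zero]⟩
        obtain ⟨w, hw, hw0⟩ := hk N
        rw [hw, hw0 _ (Ideal.pow_mem_pow hfI N)]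
    exact ModuleCat.isZero_of_subsingleton _
  intro T hTT g
  obtain ⟨g', rfl⟩ := (comp_ε_bijective I T Y hTT).2 g
  show g' ≫ ε = 0
  rw [hR0.eq_of_tgt g' 0, zero_comp]

theorem noTors_of_noCompl [DRing.HasRgammaI I] {X : Dual.D A} (h : NoCompl I X) : NoTors I X := by
  suffices H : ∀ (l : List A), (∀ x ∈ l, x ∈ I) → ∀ Y : Dual.D A, I ≤ bd Y ⊔ Ideal.ofList l → NoCompl I Y →
      NoTors I Y by
    obtain ⟨l, hl⟩ := Groth.Agent.DualCxLib.ofList_toList_fg I
    exact H l (fun x hx => hl ▸ Ideal.subset_span hx) X (le_sup_of_le_right hl.ge) h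
  intro l
  induction l with
  | nil =>
    intro _ Y hY h T _ g
    rw [Ideal.ofList_nil, sup_bot_eq] at hY
    rw [← Category.comp_id g, h Y (fun a ha => bd_le_dcIdealD Y (hY ha)) (𝟙 Y), comp_zero]
  | cons f l ih =>
    intro hl Y hY h
    obtain ⟨C, π, δ, hT, hb, hf⟩ := exists_cone f Y
    have hC : NoTors I C := ih (fun x hx => hl x (List.mem_cons_of_mem f hx)) C (hY.trans (by
      rw [Ideal.ofList_cons]
      exact sup_le (hb.trans le_sup_left) (sup_le (((Ideal.span_singleton_le_iff_mem _).2 hf).trans le_sup_left)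
        le_sup_right))) (NoCompl.cone I hT h)
    exact noTors_of_cone I (hl f List.mem_cons_self) hT hC

theorem coyoneda₃_zero {X Y C : Dual.D A} {a : X ⟶ Y} {π : Y ⟶ C} {δ : C ⟶ X⟦(1 : ℤ)⟧}
    (hT : Triangle.mk a π δ ∈ distTriang _)
    (hb : ∀ T : Dual.D A, PT I T → Function.Bijective fun g : T ⟶ X => g ≫ a) : NoTors I C := by
  intro T hTT g
  have hsh : Function.Injective fun g : T ⟶ X⟦(1 : ℤ)⟧ => g ≫ a⟦(1 : ℤ)⟧' := by
    intro g g' hgg
    let adj := (shiftEquiv (Dual.D A) (1 : ℤ)).symm.toAdjunction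
    apply (adj.homEquiv T X).symm.injective
    refine (hb _ (tors_shift I hTT (-1))).1 ?_
    show (adj.homEquiv T X).symm g ≫ a = (adj.homEquiv T X).symm g' ≫ a
    rw [← adj.homEquiv_naturality_right_symm, ← adj.homEquiv_naturality_right_symm]
    exact congrArg _ hgg
  have hgd : g ≫ δ = 0 := hsh (by
    show (g ≫ δ) ≫ a⟦(1 : ℤ)⟧' = 0 ≫ a⟦(1 : ℤ)⟧'
    rw [zero_comp, Category.assoc]
    exact (congrArg (g ≫ ·) (comp_distTriang_mor_zero₃₁ _ hT)).trans comp_zero)
  obtain ⟨k, hk⟩ := Triangle.coyoneda_exact₃ _ hT g hgd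
  obtain ⟨k', hk'⟩ := (hb T hTT).2 k
  have h0 : a ≫ π = 0 := comp_distTriang_mor_zero₁₂ _ hT
  rw [hk, show (Triangle.mk a π δ).mor₂ = π from rfl, ← show k' ≫ a = k from hk', Category.assoc, h0, comp_zero]

theorem yoneda₃_zero {X Y C : Dual.D A} {a : X ⟶ Y} {π : Y ⟶ C} {δ : C ⟶ X⟦(1 : ℤ)⟧}
    (hT : Triangle.mk a π δ ∈ distTriang _)
    (hb : ∀ E : Dual.D A, (I : Set A) ⊆ dcIdealD E → Function.Bijective fun g : Y ⟶ E => a ≫ g) :
    NoCompl I C := by
  intro E hE g
  have h0 : a ≫ π = 0 := comp_distTriang_mor_zero₁₂ _ hT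
  have hπg : π ≫ g = 0 := (hb E hE).1 (by
    show a ≫ π ≫ g = a ≫ 0
    rw [← Category.assoc, h0, zero_comp, comp_zero])
  obtain ⟨k, hk⟩ := Triangle.yoneda_exact₃ _ hT g hπg
  obtain ⟨k', hk'⟩ := (bijective_precomp_shift a 1 hb E hE).2 k
  have h31 : δ ≫ a⟦(1 : ℤ)⟧' = 0 := comp_distTriang_mor_zero₃₁ _ hT
  rw [hk, show (Triangle.mk a π δ).mor₃ = δ from rfl, ← show a⟦(1 : ℤ)⟧' ≫ k' = k from hk', ← Category.assoc,
    h31, zero_comp]

theorem precomp_bijective {X Y C E : Dual.D A} {a : X ⟶ Y} {π : Y ⟶ C} {δ : C ⟶ X⟦(1 : ℤ)⟧}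
    (hT : Triangle.mk a π δ ∈ distTriang _) (hC : NoCompl I C) (hE : (I : Set A) ⊆ dcIdealD E) :
    Function.Bijective fun g : Y ⟶ E => a ≫ g := by
  refine ⟨fun g g' h => sub_eq_zero.1 ?_, fun g => ?_⟩
  · obtain ⟨k, hk⟩ := Triangle.yoneda_exact₂ _ hT (g - g') (by
      show a ≫ (g - g') = 0
      rw [Preadditive.comp_sub]; exact sub_eq_zero.2 h)
    rw [hk, hC E hE k, comp_zero]
  · obtain ⟨k, hk⟩ := Triangle.yoneda_exact₂ _ (inv_rot_of_distTriang _ hT) g
      (NoCompl.shift I hC (-1) E hE _)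
    exact ⟨k, hk.symm⟩

theorem postcomp_bijective {X Y C T : Dual.D A} {a : X ⟶ Y} {π : Y ⟶ C} {δ : C ⟶ X⟦(1 : ℤ)⟧}
    (hT : Triangle.mk a π δ ∈ distTriang _) (hC : NoTors I C) (hTT : PT I T) :
    Function.Bijective fun g : T ⟶ X => g ≫ a := by
  refine ⟨fun g g' h => sub_eq_zero.1 ?_, fun g => ?_⟩
  · obtain ⟨k, hk⟩ := Triangle.coyoneda_exact₂ _ (inv_rot_of_distTriang _ hT) (g - g') (by
      show (g - g') ≫ a = 0
      rw [Preadditive.sub_comp]; exact sub_eq_zero.2 h)
    rw [hk, NoTors.shift I hC (-1) T hTT k]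
    exact zero_comp
  · obtain ⟨k, hk⟩ := Triangle.coyoneda_exact₂ _ hT g (hC T hTT _)
    exact ⟨k, hk.symm⟩

theorem greenlees_may [DRing.HasRgammaI I] [DRing.HasDerivedCompletion I] (K : Dual.D A) :
    Nonempty ((DRing.RgammaI I).obj ((DRing.derivedCompletion I).obj K).obj ≅ (DRing.RgammaI I).obj K) ∧
      Nonempty ((DRing.derivedCompletion I).obj ((DRing.RgammaI I).obj K) ≅ (DRing.derivedCompletion I).obj K) := by
  let η := DRing.toDerivedCompletion I K
  let ε := (DRing.RgammaIε I).app K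
  have hη := isCompl_toDerivedCompletion (I := I) K
  constructor
  · obtain ⟨C, π, δ, hT⟩ := distinguished_cocone_triangle η
    have hC : NoTors I C := noTors_of_noCompl I (yoneda₃_zero I hT hη.bij)
    let R := (DRing.RgammaI I).obj K
    let R' := (DRing.RgammaI I).obj ((DRing.derivedCompletion I).obj K).obj
    have hb : ∀ T : Dual.D A, PT I T → Function.Bijective fun g : T ⟶ R => g ≫ (DRing.RgammaI I).map η := by
      intro T hTT
      have h1 : Function.Bijective ((fun g : T ⟶ R' => g ≫ (DRing.RgammaIε I).app _) ∘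
          fun g : T ⟶ R => g ≫ (DRing.RgammaI I).map η) := by
        have : ((fun g : T ⟶ R' => g ≫ (DRing.RgammaIε I).app _) ∘
          fun g : T ⟶ R => g ≫ (DRing.RgammaI I).map η) = (fun g => g ≫ η) ∘ (fun g : T ⟶ R => g ≫ ε) := by
          funext g
          have hn := (DRing.RgammaIε I).naturality η
          simp only [Functor.id_map, Functor.id_obj] at hn
          show (g ≫ (DRing.RgammaI I).map η) ≫ _ = (g ≫ ε) ≫ η
          rw [Category.assoc, hn, Category.assoc]
        rw [this]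
        exact (postcomp_bijective I hT hC hTT).comp (comp_ε_bijective I T K hTT)
      exact ((comp_ε_bijective I T _ hTT).of_comp_iff' _).1 h1
    obtain ⟨v, hv⟩ := (hb R' (torsion_RgammaI I _)).2 (𝟙 R')
    refine ⟨⟨v, (DRing.RgammaI I).map η, hv, (hb R (torsion_RgammaI I K)).1 ?_⟩⟩
    show ((DRing.RgammaI I).map η ≫ v) ≫ (DRing.RgammaI I).map η = 𝟙 R ≫ (DRing.RgammaI I).map η
    rw [Category.assoc, show v ≫ (DRing.RgammaI I).map η = 𝟙 R' from hv, Category.comp_id, Category.id_comp]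
  · obtain ⟨C, π, δ, hT⟩ := distinguished_cocone_triangle ε
    have hC : NoCompl I C := noCompl_of_noTors I (coyoneda₃_zero I hT fun T hTT => comp_ε_bijective I T K hTT)
    have h : IsCompl (I : Set A) (ε ≫ η) :=
      ⟨hη.mem, fun E hE => by
        have e : (fun φ => (ε ≫ η) ≫ φ) =
            (fun φ : K ⟶ E => ε ≫ φ) ∘ (fun φ : ((DRing.derivedCompletion I).obj K).obj ⟶ E => η ≫ φ) :=
          funext fun φ => Category.assoc ε η φ
        rw [e]
        exact (precomp_bijective I hT hC hE).comp (hη.bij E hE)⟩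
    obtain ⟨e, -⟩ := (isCompl_toDerivedCompletion (I := I) ((DRing.RgammaI I).obj K)).exists_iso h
    exact ⟨ObjectProperty.isoMk _ e⟩

end Groth.Agent.TorsCoreflLib
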