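import Groth.Agent.TorsCoreflLib.Change
import Groth.Agent.ExtCechLib.Basic
import Groth.Agent.RHomComplLib.Cech
import Groth.Agent.DualCxLib.GammaHDI
import Groth.Agent.S8933
import Groth.Agent.DRingLib.HomCxInj

/-! Torsion coreflection and base change along an arbitrary map. -/

set_option autoImplicit false
set_option backward.isDefEq.respectTransparency false
set_option linter.style.haveILetI false

universe u

open CategoryTheory Limits Pretriangulated
attribute [local instance] HasDerivedCategory.standard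

noncomputable section

namespace Groth.Agent.TorsCoreflLib

open Groth.Agent.DComplLib Groth.Agent.DRingLib DerCA

variable {A B : Type u} [CommRing A] [CommRing B] [Algebra A B] (I : Ideal A)

theorem noTors_of_isIso [IsNoetherianRing A] {f : A} (hf : f ∈ I) (Y : Dual.D A) [IsIso (f • 𝟙 Y)] : NoTors I Y := by
  haveI := hasRgammaI I
  have hz : IsZero ((DRing.RgammaI I).obj Y) := Groth.Agent.ProDerLib.isZero_of_homology _ fun q => by
    obtain ⟨e⟩ := Groth.Agent.DualCxLib.nonempty_HD_RgammaI I Y q
    haveI := Groth.Agent.S8933.subsingleton_HDI' A I Y f hf q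
    haveI : Subsingleton (Dual.HD A ((DRing.RgammaI I).obj Y) q) := e.injective.subsingleton
    exact ModuleCat.isZero_of_subsingleton ((DerivedCategory.homologyFunctor (ModuleCat.{u} A) q).obj ((DRing.RgammaI I).obj Y))
  intro T hT g
  obtain ⟨g', rfl⟩ := (comp_ε_bijective I T Y hT).2 g
  show g' ≫ _ = 0
  rw [hz.eq_of_tgt g' 0, zero_comp]

theorem torsion_of_no_maps {f : A} {T : Dual.D A}
    (h : ∀ Y : Dual.D A, IsIso (f • 𝟙 Y) → ∀ g : T ⟶ Y, g = 0) (n : ℤ) (m : Dual.HD A T n) :
    ∃ N : ℕ, f ^ N • m = 0 := by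
  let P := DerivedCategory.Q.objPreimage T
  let eP : DRing.toD P ≅ T := DerivedCategory.Q.objObjPreimageIso T
  let L := (locCx (Submonoid.powers f)).obj P
  let u := locCxUnit (Submonoid.powers f) P
  haveI : IsIso (f • 𝟙 (DRing.toD L)) := by
    haveI : ∀ i, IsIso ((f • 𝟙 L).f i) := fun i =>
      (ConcreteCategory.isIso_iff_bijective _).2 (RHomComplLib.bijective_smul_loc f (P.X i))
    haveI : IsIso (f • 𝟙 L) := HomologicalComplex.Hom.isIso_of_components _
    rw [← CategoryTheory.Functor.map_id, ← Functor.map_smul]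
    infer_instance
  have h0 : DerivedCategory.Q.map u = 0 := by
    rw [← cancel_epi eP.inv, comp_zero]
    exact h _ inferInstance _
  let α := ((DerivedCategory.homologyFunctor (ModuleCat.{u} A) n).mapIso eP).toLinearEquiv.symm ≪≫ₗ
    (hQIso P n).toLinearEquiv
  suffices key : ∀ c : P.homology n, ∃ N : ℕ, f ^ N • c = 0 by
    obtain ⟨N, hN⟩ := key (α m)
    exact ⟨N, α.injective (by rw [map_smul, hN, map_zero])⟩
  intro c
  obtain ⟨z, rfl⟩ := LocCohLib.cls_surjective P n c
  have h1 : HomologicalComplex.homologyMap u n = 0 := by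
    rw [← cancel_epi (hQIso P n).hom, ← hQIso_natural, h0, Functor.map_zero, zero_comp, comp_zero]
  have h2 : LocCohLib.cls L n (LocCohLib.mapZ n u z) = 0 :=
    (LocCohLib.homologyMap_cls (K := P) n u z).symm.trans (by rw [h1]; rfl)
  obtain ⟨w, hw⟩ := (LocCohLib.cls_eq_zero_iff L n _).1 h2
  let p := (ComplexShape.up ℤ).prev n
  change LocalizedModule (Submonoid.powers f) (P.X p) at w
  induction w using LocalizedModule.induction_on with
  | h x s =>
    obtain ⟨_, k, rfl⟩ := s
    have hs : ∀ y : LocalizedModule (Submonoid.powers f) (P.X p), (L.d p n).hom y =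
        IsLocalizedModule.map (Submonoid.powers f) (LocalizedModule.mkLinearMap (Submonoid.powers f) (P.X p))
          (LocalizedModule.mkLinearMap (Submonoid.powers f) (P.X n)) (P.d p n).hom y := fun y => rfl
    have e : LocalizedModule.mkLinearMap (Submonoid.powers f) (P.X n) (f ^ k • (z : P.X n)) =
        LocalizedModule.mkLinearMap (Submonoid.powers f) (P.X n) ((P.d p n).hom x) := by
      have h3 : (f ^ k) • (L.d p n).hom (LocalizedModule.mk x ⟨f ^ k, k, rfl⟩) =
          LocalizedModule.mkLinearMap (Submonoid.powers f) (P.X n) ((P.d p n).hom x) := by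
        rw [hs]
        refine (map_smul _ _ _).symm.trans ((congrArg _ ?_).trans
          (IsLocalizedModule.map_apply (Submonoid.powers f) (LocalizedModule.mkLinearMap (Submonoid.powers f) (P.X p))
            (LocalizedModule.mkLinearMap (Submonoid.powers f) (P.X n)) (P.d p n).hom x))
        exact (LocalizedModule.smul'_mk _ _ _).trans
          (LocalizedModule.mk_cancel (⟨f ^ k, k, rfl⟩ : Submonoid.powers f) x)
      rw [map_smul]
      exact (congrArg (f ^ k • ·) hw).symm.trans h3
    obtain ⟨⟨_, j, rfl⟩, hj⟩ := (IsLocalizedModule.eq_iff_exists (Submonoid.powers f) _).1 e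
    refine ⟨j + k, ?_⟩
    rw [← map_smul, LocCohLib.cls_eq_zero_iff]
    refine ⟨f ^ j • x, ?_⟩
    rw [map_smul]
    show f ^ j • (P.d p n).hom x = f ^ (j + k) • (z : P.X n)
    rw [pow_add, mul_smul]
    exact hj.symm

theorem pt_lbc_general [IsNoetherianRing A] [IsNoetherianRing B] [DRing.HasLBaseChange (algebraMap A B)]
    {K : Dual.D A} (h : PT I K) : PT (I.map (algebraMap A B)) ((DRing.LBaseChange (algebraMap A B)).obj K) := by
  intro n m
  have key : ∀ a ∈ I, ∃ N : ℕ, (algebraMap A B a) ^ N • m = 0 := fun a ha => by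
    refine torsion_of_no_maps (fun Y hY g => ?_) n m
    haveI : IsIso (a • 𝟙 ((DRing.restrictD (algebraMap A B)).obj Y)) := by
      rw [← restrict_smul]; infer_instance
    exact ((lbcAdj (algebraMap A B)).homEquiv K Y).injective
      ((noTors_of_isIso I ha _ K h _).trans (noTors_of_isIso I ha _ K h _).symm)
  obtain ⟨s, hs⟩ := IsNoetherian.noetherian (I.map (algebraMap A B))
  let tor : Ideal B := (Submodule.span B {m}).annihilator.radical
  have hle : I.map (algebraMap A B) ≤ tor := Ideal.map_le_iff_le_comap.2 fun a ha => by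
    obtain ⟨N, hN⟩ := key a ha
    exact ⟨N, (Submodule.mem_annihilator_span_singleton _ _).2 hN⟩
  obtain ⟨N, hN⟩ := Ideal.exists_pow_le_of_le_radical_of_fg hle ⟨s, hs⟩
  exact ⟨N, fun b hb => (Submodule.mem_annihilator_span_singleton _ _).1 (hN hb)⟩

theorem noTors_congr {J : Ideal A} [IsNoetherianRing A] (h : I.radical = J.radical) {X : Dual.D A} (hX : NoTors I X) :
    NoTors J X := fun T hT g => by
  refine hX T (fun i m => ?_) g
  obtain ⟨n, hn⟩ := hT i m
  obtain ⟨k, hk⟩ := Ideal.exists_pow_le_of_le_radical_of_fg (h ▸ Ideal.le_radical : I ≤ J.radical)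
    (IsNoetherian.noetherian I)
  exact ⟨k * n, fun a ha => hn a (Ideal.pow_right_mono hk n (by rwa [← pow_mul]))⟩

theorem pt_congr {J : Ideal A} [IsNoetherianRing A] (h : I.radical = J.radical) {X : Dual.D A} (hX : PT I X) :
    PT J X := fun i m => by
  obtain ⟨n, hn⟩ := hX i m
  obtain ⟨k, hk⟩ := Ideal.exists_pow_le_of_le_radical_of_fg (h ▸ Ideal.le_radical : J ≤ I.radical)
    (IsNoetherian.noetherian J)
  exact ⟨k * n, fun a ha => hn a (Ideal.pow_right_mono hk n (by rwa [← pow_mul]))⟩

theorem nonempty_lbc_inD [DRing.HasLBaseChange (algebraMap A B)] :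
    Nonempty ((DRing.LBaseChange (algebraMap A B)).obj (Dual.inD A A) ≅ Dual.inD B B) := by
  let φ := algebraMap A B
  haveI := isIso_lbcβ_app φ (single₀ (ModuleCat.of A A)) (isKFlat_single₀ _ (inferInstanceAs (Module.Flat A A)))
  let e : (ModuleCat.extendScalars.{u, u, u} φ).obj (ModuleCat.of A A) ≅ ModuleCat.of B B :=
    (extendScalarsTensorEquiv A B (ModuleCat.of A A) ≪≫ₗ (TensorProduct.AlgebraTensorModule.rid A B B)).toModuleIso
  exact ⟨(DRing.LBaseChange φ).mapIso ((DerivedCategory.singleFunctorIsoCompQ (ModuleCat.{u} A) 0).app _) ≪≫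
    asIso ((lbcβ φ).app (single₀ (ModuleCat.of A A))) ≪≫
    DerivedCategory.Q.mapIso (((HomologicalComplex.singleMapHomologicalComplex (ModuleCat.extendScalars.{u, u, u} φ)
      (ComplexShape.up ℤ) 0).app (ModuleCat.of A A)) ≪≫
        (HomologicalComplex.single (ModuleCat.{u} B) (ComplexShape.up ℤ) 0).mapIso e) ≪≫
    ((DerivedCategory.singleFunctorIsoCompQ (ModuleCat.{u} B) 0).app _).symm⟩

section Map

variable [IsNoetherianRing A] [IsNoetherianRing B] [DRing.HasLBaseChange (algebraMap A B)]

omit [IsNoetherianRing A] [IsNoetherianRing B] in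
theorem lbc_smul' (a : A) (K : Dual.D A) :
    (DRing.LBaseChange (algebraMap A B)).map (a • 𝟙 K) =
      algebraMap A B a • 𝟙 ((DRing.LBaseChange (algebraMap A B)).obj K) := by
  let adj := lbcAdj (algebraMap A B)
  apply (adj.homEquiv _ _).injective
  rw [show (DRing.LBaseChange (algebraMap A B)).map (a • 𝟙 K) =
    (DRing.LBaseChange (algebraMap A B)).map (a • 𝟙 K) ≫ 𝟙 _ from (Category.comp_id _).symm,
    adj.homEquiv_naturality_left, show algebraMap A B a • 𝟙 ((DRing.LBaseChange (algebraMap A B)).obj K) =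
      𝟙 _ ≫ (algebraMap A B a • 𝟙 _) from (Category.id_comp _).symm,
    adj.homEquiv_naturality_right, restrict_smul, Linear.smul_comp, Category.id_comp, Linear.comp_smul,
    Category.comp_id]

theorem noTors_lbc_general [DRing.HasRgammaI (I.map (algebraMap A B))] {X : Dual.D A} (h : NoTors I X) :
    NoTors (I.map (algebraMap A B)) ((DRing.LBaseChange (algebraMap A B)).obj X) := by
  letI := (lbcAdj (algebraMap A B)).leftAdjointCommShift ℤ
  haveI := (lbcAdj (algebraMap A B)).commShift_of_rightAdjoint ℤ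
  haveI : (DRing.LBaseChange (algebraMap A B)).IsTriangulated := (lbcAdj (algebraMap A B)).isTriangulated_leftAdjoint
  suffices H : ∀ (l : List A), (∀ x ∈ l, x ∈ I) → ∀ Y : Dual.D A, I ≤ bd Y ⊔ Ideal.ofList l → NoTors I Y →
      NoTors (I.map (algebraMap A B)) ((DRing.LBaseChange (algebraMap A B)).obj Y) by
    obtain ⟨l, hl⟩ := Groth.Agent.DualCxLib.ofList_toList_fg I
    exact H l (fun x hx => hl ▸ Ideal.subset_span hx) X (le_sup_of_le_right hl.ge) h
  intro l
  induction l with
  | nil =>
    intro _ Y hY h T _ g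
    rw [Ideal.ofList_nil, sup_bot_eq] at hY
    have hz : IsZero Y := (IsZero.iff_id_eq_zero Y).2 (h Y (tors_of_le_bd _ hY) (𝟙 Y))
    exact ((DRing.LBaseChange (algebraMap A B)).map_isZero hz).eq_of_tgt g 0
  | cons f l ih =>
    intro hl Y hY h
    obtain ⟨C, π, δ, hT, hb, hf⟩ := exists_cone f Y
    have hC := ih (fun x hx => hl x (List.mem_cons_of_mem f hx)) C (hY.trans (by
      rw [Ideal.ofList_cons]
      exact sup_le (hb.trans le_sup_left) (sup_le (((Ideal.span_singleton_le_iff_mem _).2 hf).trans le_sup_left)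
        le_sup_right))) (NoTors.cone _ hT h)
    let F := DRing.LBaseChange (algebraMap A B)
    have hT' : Triangle.mk (F.map (f • 𝟙 Y)) (F.map π) (F.map δ ≫ (F.commShiftIso (1 : ℤ)).hom.app Y) ∈ distTriang _ :=
      F.map_distinguished _ hT
    rw [lbc_smul'] at hT'
    exact noTors_of_cone _ (Ideal.mem_map_of_mem _ (hl f List.mem_cons_self)) hT' hC

theorem nonempty_lbc_RgammaI [DRing.HasRgammaI I] {J : Ideal B} [DRing.HasRgammaI J]
    (hJ : (I.map (algebraMap A B)).radical = J.radical) :
    Nonempty ((DRing.LBaseChange (algebraMap A B)).obj ((DRing.RgammaI I).obj (Dual.inD A A)) ≅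
      (DRing.RgammaI J).obj (Dual.inD B B)) := by
  haveI := hasRgammaI (I.map (algebraMap A B))
  letI := (lbcAdj (algebraMap A B)).leftAdjointCommShift ℤ
  haveI := (lbcAdj (algebraMap A B)).commShift_of_rightAdjoint ℤ
  haveI : (DRing.LBaseChange (algebraMap A B)).IsTriangulated := (lbcAdj (algebraMap A B)).isTriangulated_leftAdjoint
  let K := Dual.inD A A
  let ε := (DRing.RgammaIε I).app K
  obtain ⟨C, π, δ, hT⟩ := distinguished_cocone_triangle ε
  have hC := noTors_congr _ hJ (noTors_lbc_general (B := B) I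
    (coyoneda₃_zero _ hT fun T hTT => comp_ε_bijective _ T K hTT))
  obtain ⟨e⟩ := nonempty_iso_of_noTors J ((DRing.LBaseChange (algebraMap A B)).map_distinguished _ hT) hC
    (pt_congr _ hJ (pt_lbc_general (B := B) I (torsion_RgammaI I K)))
  obtain ⟨e'⟩ := nonempty_lbc_inD (A := A) (B := B)
  exact ⟨e.symm ≪≫ (DRing.RgammaI J).mapIso e'⟩

end Map

end Groth.Agent.TorsCoreflLib
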