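import Groth.Agent.TorsCoreflLib.GM
import Groth.Agent.DRingLib.RestrictPC
import Groth.Agent.DRingLib.FlatBC
import Groth.Agent.DRingLib.BaseChangeAdj
import Mathlib.CategoryTheory.Triangulated.Adjunction

/-! Torsion objects and change of rings. -/

set_option autoImplicit false
set_option backward.isDefEq.respectTransparency false
set_option linter.style.haveILetI false

universe u

open CategoryTheory Limits Pretriangulated
attribute [local instance] HasDerivedCategory.standard

noncomputable section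

namespace Groth.Agent.TorsCoreflLib

open Groth.Agent.DComplLib Groth.Agent.DRingLib

variable {A B : Type u} [CommRing A] [CommRing B] [Algebra A B] (I : Ideal A)

theorem hasRgammaI : DRing.HasRgammaI I :=
  Groth.Agent.KInj.hasRightDerivedFunctor (fun K => Groth.Agent.KInj.hres_of_isGrothendieckAbelian _ K) _

omit I in
theorem smul_eq_zero_of_map_le {J : Ideal A} {M : Type u} [AddCommGroup M] [Module B M] {m : M}
    (h : ∀ a ∈ J, algebraMap A B a • m = 0) : ∀ b ∈ J.map (algebraMap A B), b • m = 0 := fun b hb => by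
  induction hb using Submodule.span_induction with
  | mem y hy => obtain ⟨a, ha, rfl⟩ := hy; exact h a ha
  | zero => exact zero_smul B m
  | add y z _ _ hy hz => rw [add_smul, hy, hz, add_zero]
  | smul c y _ hy => rw [smul_eq_mul, mul_smul, hy, smul_zero]

omit I in
theorem nonempty_extend_congr {M : Type u} [AddCommGroup M] [Module A M] {N : ModuleCat.{u + 1} A}
    (e : M ≃ₗ[A] N) :
    Nonempty ((ModuleCat.extendScalars.{u, u, u} (algebraMap A B)).obj (ModuleCat.of A M) ≃ₗ[B]
      (ModuleCat.extendScalars.{u, u, u + 1} (algebraMap A B)).obj N) := by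
  letI : Module A B := Module.compHom B (algebraMap A B)
  let T := TensorProduct.congr (LinearEquiv.refl A B) e
  exact ⟨{ T.toAddEquiv with
    map_smul' := fun c x => by
      show T (c • x) = c • T x
      refine TensorProduct.induction_on x ?_ (fun b m => ?_) (fun x y hx hy => ?_)
      · exact (congrArg T (smul_zero c)).trans ((map_zero T).trans ((smul_zero c).symm.trans
          (congrArg (c • ·) (map_zero T).symm)))
      · rfl
      · exact (congrArg T (smul_add c x y)).trans ((map_add T _ _).trans ((congrArg₂ (· + ·) hx hy).trans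
          ((smul_add c _ _).symm.trans (congrArg (c • ·) (map_add T x y).symm)))) }⟩

theorem pt_restrict {K : Dual.D B} (h : PT (I.map (algebraMap A B)) K) :
    PT I ((DRing.restrictD (algebraMap A B)).obj K) := fun i => by
  refine isPowerTorsion_equiv I (hdRestrictIso (algebraMap A B) K i).toLinearEquiv fun m => ?_
  obtain ⟨n, hn⟩ := h i m
  exact ⟨n, fun a ha => hn (algebraMap A B a) (by rw [← Ideal.map_pow]; exact Ideal.mem_map_of_mem _ ha)⟩

theorem restrict_smul (a : A) (K : Dual.D B) :
    (DRing.restrictD (algebraMap A B)).map (algebraMap A B a • 𝟙 K) =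
      a • 𝟙 ((DRing.restrictD (algebraMap A B)).obj K) := by
  let E := DerivedCategory.Q.objPreimage K
  let e := DerivedCategory.Q.objObjPreimageIso K
  let R := ModuleCat.restrictScalars.{u} (algebraMap A B)
  rw [show algebraMap A B a • 𝟙 K = e.inv ≫ DerivedCategory.Q.map (algebraMap A B a • 𝟙 E) ≫ e.hom by
    rw [Functor.map_smul, CategoryTheory.Functor.map_id, Linear.smul_comp, Category.id_comp, Linear.comp_smul,
      e.inv_hom_id]]
  rw [Functor.map_comp, Functor.map_comp]
  have h1 : (DRing.restrictD (algebraMap A B)).map (DerivedCategory.Q.map (algebraMap A B a • 𝟙 E)) =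
      a • 𝟙 _ := by
    have hs : DerivedCategory.Q.map
          ((R.mapHomologicalComplex (ComplexShape.up ℤ)).map (algebraMap A B a • 𝟙 E)) = a • 𝟙 _ :=
      (congrArg DerivedCategory.Q.map (show _ = a • 𝟙 ((R.mapHomologicalComplex (ComplexShape.up ℤ)).obj E) from
        HomologicalComplex.hom_ext _ _ fun i => rfl)).trans
        (by rw [Functor.map_smul, CategoryTheory.Functor.map_id])
    have hn := R.mapDerivedCategoryFactors_hom_naturality (algebraMap A B a • 𝟙 E)
    rw [hs, Linear.comp_smul] at hn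
    refine (cancel_mono (R.mapDerivedCategoryFactors.hom.app E)).1 (hn.trans ?_)
    rw [Linear.smul_comp]
    exact congrArg (a • ·) ((Category.comp_id _).trans (Category.id_comp _).symm)
  rw [h1, Linear.smul_comp, Category.id_comp, Linear.comp_smul, ← Functor.map_comp, e.inv_hom_id,
    CategoryTheory.Functor.map_id]

variable [IsNoetherianRing A] [IsNoetherianRing B]

theorem noTors_restrict [DRing.HasRgammaI I] {X : Dual.D B} (h : NoTors (I.map (algebraMap A B)) X) :
    NoTors I ((DRing.restrictD (algebraMap A B)).obj X) := by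
  suffices H : ∀ (l : List A), (∀ x ∈ l, x ∈ I) → ∀ Y : Dual.D B,
      I.map (algebraMap A B) ≤ bd Y ⊔ (Ideal.ofList l).map (algebraMap A B) → NoTors (I.map (algebraMap A B)) Y →
      NoTors I ((DRing.restrictD (algebraMap A B)).obj Y) by
    obtain ⟨l, hl⟩ := Groth.Agent.DualCxLib.ofList_toList_fg I
    exact H l (fun x hx => hl ▸ Ideal.subset_span hx) X (le_sup_of_le_right (Ideal.map_mono hl.ge)) h
  intro l
  induction l with
  | nil =>
    intro _ Y hY h T _ g
    rw [Ideal.ofList_nil, Ideal.map_bot, sup_bot_eq] at hY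
    have hz : IsZero Y := (IsZero.iff_id_eq_zero Y).2 (h Y (tors_of_le_bd _ hY) (𝟙 Y))
    exact ((DRing.restrictD (algebraMap A B)).map_isZero hz).eq_of_tgt g 0
  | cons f l ih =>
    intro hl Y hY h
    obtain ⟨C, π, δ, hT, hb, hf⟩ := exists_cone (algebraMap A B f) Y
    have hC := ih (fun x hx => hl x (List.mem_cons_of_mem f hx)) C (hY.trans (by
      rw [Ideal.ofList_cons, Ideal.map_sup, Ideal.map_span, Set.image_singleton]
      exact sup_le (hb.trans le_sup_left) (sup_le (((Ideal.span_singleton_le_iff_mem _).2 hf).trans le_sup_left)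
        le_sup_right))) (NoTors.cone _ hT h)
    let F := DRing.restrictD (algebraMap A B)
    have hT' : Triangle.mk (F.map (algebraMap A B f • 𝟙 Y)) (F.map π) (F.map δ ≫ (F.commShiftIso (1 : ℤ)).hom.app Y) ∈ distTriang _ :=
      F.map_distinguished _ hT
    rw [restrict_smul] at hT'
    exact noTors_of_cone I (hl f List.mem_cons_self) hT' hC

omit [IsNoetherianRing B] in
theorem nonempty_iso_of_noTors [DRing.HasRgammaI I] {R' K C : Dual.D A} {a : R' ⟶ K} {π : K ⟶ C}
    {δ : C ⟶ R'⟦(1 : ℤ)⟧} (hT : Triangle.mk a π δ ∈ distTriang _) (hC : NoTors I C) (hR : PT I R') :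
    Nonempty ((DRing.RgammaI I).obj K ≅ R') := by
  let R := (DRing.RgammaI I).obj K
  have hRR : PT I R := torsion_RgammaI I K
  obtain ⟨u, hu⟩ := (comp_ε_bijective I R' K hR).2 a
  obtain ⟨v, hv⟩ := (postcomp_bijective I hT hC hRR).2 ((DRing.RgammaIε I).app K)
  refine ⟨⟨v, u, (comp_ε_bijective I R K hRR).1 ?_, (postcomp_bijective I hT hC hR).1 ?_⟩⟩
  · show (v ≫ u) ≫ (DRing.RgammaIε I).app K = 𝟙 R ≫ (DRing.RgammaIε I).app K
    rw [Category.assoc, show u ≫ (DRing.RgammaIε I).app K = a from hu, Category.id_comp]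
    exact hv
  · show (u ≫ v) ≫ a = 𝟙 R' ≫ a
    rw [Category.assoc, show v ≫ a = (DRing.RgammaIε I).app K from hv, Category.id_comp]
    exact hu

theorem nonempty_HDI_restrict (K : Dual.D B) (i : ℤ) :
    Nonempty (Dual2.HDI A I ((DRing.restrictD (algebraMap A B)).obj K) i ≅
      (ModuleCat.restrictScalars (algebraMap A B)).obj (Dual2.HDI B (I.map (algebraMap A B)) K i)) := by
  haveI := hasRgammaI I
  haveI := hasRgammaI (I.map (algebraMap A B))
  let ε := (DRing.RgammaIε (I.map (algebraMap A B))).app K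
  obtain ⟨C, π, δ, hT⟩ := distinguished_cocone_triangle ε
  have hC := noTors_restrict I (coyoneda₃_zero _ hT fun T hTT => comp_ε_bijective _ T K hTT)
  obtain ⟨e⟩ := nonempty_iso_of_noTors I ((DRing.restrictD (algebraMap A B)).map_distinguished _ hT) hC
    (pt_restrict I (torsion_RgammaI _ K))
  obtain ⟨c₁⟩ := Groth.Agent.DualCxLib.nonempty_HD_RgammaI I ((DRing.restrictD (algebraMap A B)).obj K) i
  obtain ⟨c₂⟩ := Groth.Agent.DualCxLib.nonempty_HD_RgammaI (I.map (algebraMap A B)) K i
  let e' := ((DerivedCategory.homologyFunctor (ModuleCat.{u} A) i).mapIso e ≪≫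
    hdRestrictIso (algebraMap A B) _ i).toLinearEquiv
  let r : ((ModuleCat.restrictScalars.{u} (algebraMap A B)).obj
        ((DerivedCategory.homologyFunctor (ModuleCat.{u} B) i).obj
          ((DRing.RgammaI (I.map (algebraMap A B))).obj K))) ≃ₗ[A]
      ((ModuleCat.restrictScalars.{u + 1} (algebraMap A B)).obj (Dual2.HDI B (I.map (algebraMap A B)) K i)) :=
    { c₂.toAddEquiv with map_smul' := fun a x => c₂.map_smul (algebraMap A B a) x }
  exact ⟨(c₁.symm.trans (e'.trans r)).toModuleIso⟩

section Flat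

variable [DRing.HasLBaseChange (algebraMap A B)] [Module.Flat A B]

omit [IsNoetherianRing A] [IsNoetherianRing B] in
theorem hd_lbc (K : Dual.D A) (i : ℤ) :
    Nonempty ((DerivedCategory.homologyFunctor (ModuleCat.{u} B) i).obj ((DRing.LBaseChange (algebraMap A B)).obj K) ≅
      (ModuleCat.extendScalars.{u, u, u} (algebraMap A B)).obj
        ((DerivedCategory.homologyFunctor (ModuleCat.{u} A) i).obj K)) := by
  let E := DerivedCategory.Q.objPreimage K
  let e := DerivedCategory.Q.objObjPreimageIso K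
  let X := ModuleCat.extendScalars.{u, u, u} (algebraMap A B)
  haveI : Limits.PreservesFiniteLimits X :=
    ModuleCat.preservesFiniteLimits_extendScalars_of_flat (RingHom.flat_algebraMap_iff.2 inferInstance)
  exact ⟨(DerivedCategory.homologyFunctor (ModuleCat.{u} B) i).mapIso
      ((DRing.LBaseChange (algebraMap A B)).mapIso e.symm ≪≫ lbcIsoOfFlat _ (flat_baseMod A B) E) ≪≫
    (DerivedCategory.homologyFunctorFactors (ModuleCat.{u} B) i).app _ ≪≫ (E.sc i).mapHomologyIso X ≪≫
    X.mapIso (((DerivedCategory.homologyFunctorFactors (ModuleCat.{u} A) i).app E).symm ≪≫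
      (DerivedCategory.homologyFunctor (ModuleCat.{u} A) i).mapIso e)⟩

omit [IsNoetherianRing B] [IsNoetherianRing A] in
theorem pt_lbc {K : Dual.D A} (h : PT I K) :
    PT (I.map (algebraMap A B)) ((DRing.LBaseChange (algebraMap A B)).obj K) := fun i => by
  obtain ⟨e⟩ := hd_lbc (B := B) K i
  refine isPowerTorsion_equiv _ (e.toLinearEquiv ≪≫ₗ extendScalarsTensorEquiv A B _) fun m => ?_
  induction m using TensorProduct.induction_on with
  | zero => exact ⟨0, fun a _ => smul_zero a⟩
  | tmul b x =>
    obtain ⟨n, hn⟩ := h i x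
    refine ⟨n, fun c hc => ?_⟩
    rw [← Ideal.map_pow] at hc
    refine smul_eq_zero_of_map_le (fun a ha => ?_) c hc
    rw [algebraMap_smul, ← TensorProduct.tmul_smul, hn a ha, TensorProduct.tmul_zero]
  | add x y hx hy =>
    obtain ⟨n₁, h₁⟩ := hx
    obtain ⟨n₂, h₂⟩ := hy
    exact ⟨n₁ + n₂, fun a ha => by
      rw [smul_add, h₁ a (Ideal.pow_le_pow_right (Nat.le_add_right _ _) ha),
        h₂ a (Ideal.pow_le_pow_right (Nat.le_add_left _ _) ha), add_zero]⟩

theorem lbc_smul (a : A) (K : Dual.D A) :
    (DRing.LBaseChange (algebraMap A B)).map (a • 𝟙 K) =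
      algebraMap A B a • 𝟙 ((DRing.LBaseChange (algebraMap A B)).obj K) := by
  let adj := lbcAdj (algebraMap A B)
  apply (adj.homEquiv _ _).injective
  rw [show (DRing.LBaseChange (algebraMap A B)).map (a • 𝟙 K) =
    (DRing.LBaseChange (algebraMap A B)).map (a • 𝟙 K) ≫ 𝟙 _ from (Category.comp_id _).symm,
    adj.homEquiv_naturality_left, show algebraMap A B a • 𝟙 ((DRing.LBaseChange (algebraMap A B)).obj K) =
      𝟙 _ ≫ (algebraMap A B a • 𝟙 _) from (Category.id_comp _).symm,
    adj.homEquiv_naturality_right, restrict_smul, Linear.smul_comp, Category.id_comp, Linear.comp_smul,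
    Category.comp_id]

theorem noTors_lbc [DRing.HasRgammaI (I.map (algebraMap A B))] {X : Dual.D A} (h : NoTors I X) :
    NoTors (I.map (algebraMap A B)) ((DRing.LBaseChange (algebraMap A B)).obj X) := by
  letI := (lbcAdj (algebraMap A B)).leftAdjointCommShift ℤ
  haveI := (lbcAdj (algebraMap A B)).commShift_of_rightAdjoint ℤ
  haveI : (DRing.LBaseChange (algebraMap A B)).IsTriangulated := (lbcAdj (algebraMap A B)).isTriangulated_leftAdjoint
  suffices H : ∀ (l : List A), (∀ x ∈ l, x ∈ I) → ∀ Y : Dual.D A, I ≤ bd Y ⊔ Ideal.ofList l → NoTors I Y →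
      NoTors (I.map (algebraMap A B)) ((DRing.LBaseChange (algebraMap A B)).obj Y) by
    obtain ⟨l, hl⟩ := Groth.Agent.DualCxLib.ofList_toList_fg I
    exact H l (fun x hx => hl ▸ Ideal.subset_span hx) X (le_sup_of_le_right hl.ge) h
  intro l
  induction l with
  | nil =>
    intro _ Y hY h T _ g
    rw [Ideal.ofList_nil, sup_bot_eq] at hY
    have hz : IsZero Y := (IsZero.iff_id_eq_zero Y).2 (h Y (tors_of_le_bd _ hY) (𝟙 Y))
    exact ((DRing.LBaseChange (algebraMap A B)).map_isZero hz).eq_of_tgt g 0
  | cons f l ih =>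
    intro hl Y hY h
    obtain ⟨C, π, δ, hT, hb, hf⟩ := exists_cone f Y
    have hC := ih (fun x hx => hl x (List.mem_cons_of_mem f hx)) C (hY.trans (by
      rw [Ideal.ofList_cons]
      exact sup_le (hb.trans le_sup_left) (sup_le (((Ideal.span_singleton_le_iff_mem _).2 hf).trans le_sup_left)
        le_sup_right))) (NoTors.cone _ hT h)
    let F := DRing.LBaseChange (algebraMap A B)
    have hT' : Triangle.mk (F.map (f • 𝟙 Y)) (F.map π) (F.map δ ≫ (F.commShiftIso (1 : ℤ)).hom.app Y) ∈ distTriang _ :=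
      F.map_distinguished _ hT
    rw [lbc_smul] at hT'
    exact noTors_of_cone _ (Ideal.mem_map_of_mem _ (hl f List.mem_cons_self)) hT' hC

theorem nonempty_HDI_lbc (K : Dual.D A) (i : ℤ) :
    Nonempty (Dual2.HDI B (I.map (algebraMap A B)) ((DRing.LBaseChange (algebraMap A B)).obj K) i ≅
      (ModuleCat.extendScalars (algebraMap A B)).obj (Dual2.HDI A I K i)) := by
  haveI := hasRgammaI I
  haveI := hasRgammaI (I.map (algebraMap A B))
  letI := (lbcAdj (algebraMap A B)).leftAdjointCommShift ℤ
  haveI := (lbcAdj (algebraMap A B)).commShift_of_rightAdjoint ℤ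
  haveI : (DRing.LBaseChange (algebraMap A B)).IsTriangulated := (lbcAdj (algebraMap A B)).isTriangulated_leftAdjoint
  let ε := (DRing.RgammaIε I).app K
  obtain ⟨C, π, δ, hT⟩ := distinguished_cocone_triangle ε
  have hC := noTors_lbc (B := B) I (coyoneda₃_zero _ hT fun T hTT => comp_ε_bijective _ T K hTT)
  obtain ⟨e⟩ := nonempty_iso_of_noTors _ ((DRing.LBaseChange (algebraMap A B)).map_distinguished _ hT) hC
    (pt_lbc I (torsion_RgammaI I K))
  obtain ⟨c₁⟩ := Groth.Agent.DualCxLib.nonempty_HD_RgammaI (I.map (algebraMap A B))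
    ((DRing.LBaseChange (algebraMap A B)).obj K) i
  obtain ⟨c₂⟩ := Groth.Agent.DualCxLib.nonempty_HD_RgammaI I K i
  obtain ⟨h⟩ := hd_lbc (B := B) ((DRing.RgammaI I).obj K) i
  let e' := ((DerivedCategory.homologyFunctor (ModuleCat.{u} B) i).mapIso e ≪≫ h).toLinearEquiv
  obtain ⟨r⟩ := nonempty_extend_congr (B := B) c₂
  exact ⟨(c₁.symm.trans (e'.trans r)).toModuleIso⟩

end Flat

end Groth.Agent.TorsCoreflLib
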