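import Groth.Agent.DualCxLib.GammaQI

/-! `RΓ_I` is the coreflection onto objects with torsion cohomology. -/

set_option autoImplicit false
set_option backward.isDefEq.respectTransparency false
set_option linter.style.haveILetI false
set_option maxRecDepth 4000

universe u

open CategoryTheory Limits
attribute [local instance] HasDerivedCategory.standard

noncomputable section

namespace Groth.Agent.TorsCoreflLib

open Groth.Agent.DualCxLib

variable {A : Type u} [CommRing A] [IsNoetherianRing A] (I : Ideal A) [DRing.HasRgammaI I]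

omit [IsNoetherianRing A] in
theorem isPowerTorsion_of_equiv {M N : Type u} [AddCommGroup M] [Module A M] [AddCommGroup N] [Module A N]
    (e : M ≃ₗ[A] N) (h : LocCoh.IsPowerTorsion I N) : LocCoh.IsPowerTorsion I M := fun m => by
  obtain ⟨n, hn⟩ := h (e m)
  exact ⟨n, fun a ha => e.injective (by rw [map_smul, hn a ha, map_zero])⟩

omit [IsNoetherianRing A] in
theorem torsion_RgammaI (K : Dual.D A) (i : ℤ) :
    LocCoh.IsPowerTorsion I (Dual.HD A ((DRing.RgammaI I).obj K) i) := by
  obtain ⟨S⟩ := exists_kRep K
  obtain ⟨e⟩ := S.nonempty_RgammaI_iso I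
  let G := S.gamma I
  let T := G.sc' (i - 1) i (i + 1)
  let e' : Dual.HD A ((DRing.RgammaI I).obj K) i ≃ₗ[A] (LinearMap.ker T.g.hom ⧸ LinearMap.range T.moduleCatToCycles) :=
    ((DerivedCategory.homologyFunctor (ModuleCat.{u} A) i).mapIso e ≪≫
      (DerivedCategory.homologyFunctorFactors (ModuleCat.{u} A) i).app G ≪≫
      G.homologyIsoSc' (i - 1) i (i + 1) (by simp) (by simp) ≪≫ T.moduleCatHomologyIso).toLinearEquiv
  refine isPowerTorsion_of_equiv I e' fun m => ?_
  obtain ⟨z, rfl⟩ := Submodule.Quotient.mk_surjective _ m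
  obtain ⟨n, hn⟩ := (show DRing.torsionSub I (S.E.X i) from z.1).2
  refine ⟨n, fun a ha => ?_⟩
  rw [← Submodule.Quotient.mk_smul, Submodule.Quotient.mk_eq_zero]
  rw [show a • z = 0 from Subtype.ext (Subtype.ext (hn a ha))]
  exact zero_mem _

theorem isIso_map_ε (K : Dual.D A) : IsIso ((DRing.RgammaI I).map ((DRing.RgammaIε I).app K)) := by
  let P := DerivedCategory.Q.objPreimage K
  obtain ⟨J, f, hJ, hf, -, hJi⟩ := Groth.Agent.KInj.exists_isKInjective_resolution P
  haveI := hJ
  haveI := hf
  let eK : DerivedCategory.Q.obj J ≅ K :=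
    (asIso (DerivedCategory.Q.map f)).symm ≪≫ DerivedCategory.Q.objObjPreimageIso K
  let G := ((DRing.gammaI I).mapHomologicalComplex (ComplexShape.up ℤ)).obj J
  let W := HomotopyCategory.quasiIso (ModuleCat.{u} A) (ComplexShape.up ℤ)
  let unit := (DRing.gammaIKh I).totalRightDerivedUnit DerivedCategory.Qh W
  let q := HomotopyCategory.quotient (ModuleCat.{u} A) (ComplexShape.up ℤ)
  obtain ⟨E, g, hE, hg, -, hEi⟩ := Groth.Agent.KInj.exists_isKInjective_resolution G
  haveI := hE
  haveI := hg
  haveI huJ : IsIso (unit.app (q.obj J)) :=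
    Groth.Agent.KInj.isIso_app_of_isKInjective resol (DRing.gammaIKh I) (DRing.RgammaI I) unit J
  haveI huE : IsIso (unit.app (q.obj E)) :=
    Groth.Agent.KInj.isIso_app_of_isKInjective resol (DRing.gammaIKh I) (DRing.RgammaI I) unit E
  haveI hgg := quasiIso_gamma_map I g (fun n => by
      haveI : Module.Injective A (J.X n) := by
        haveI := hJi n
        exact (Module.injective_iff_injective_object A (J.X n)).2 inferInstance
      exact LocCohLib.injective_torsionSub I (J.X n))
    (fun n => by
      haveI := hEi n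
      exact (Module.injective_iff_injective_object A (E.X n)).2 inferInstance)
  haveI : IsIso ((DRing.gammaIKh I).map (q.map g)) := by
    show IsIso (DerivedCategory.Qh.map (((DRing.gammaI I).mapHomotopyCategory (ComplexShape.up ℤ)).map (q.map g)))
    haveI : IsIso ((q ⋙ DerivedCategory.Qh).map (((DRing.gammaI I).mapHomologicalComplex (ComplexShape.up ℤ)).map g)) := by
      show IsIso (DerivedCategory.Q.map _)
      infer_instance
    exact this
  haveI : IsIso ((DRing.RgammaI I).map (DerivedCategory.Qh.map (q.map g))) := by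
    haveI : IsIso (DerivedCategory.Qh.map (q.map g)) := by
      show IsIso (DerivedCategory.Q.map g)
      infer_instance
    infer_instance
  haveI huG : IsIso (unit.app (q.obj G)) := by
    haveI : IsIso (unit.app (q.obj G) ≫ (DerivedCategory.Qh ⋙ DRing.RgammaI I).map (q.map g)) := by
      rw [← unit.naturality (q.map g)]
      infer_instance
    haveI : IsIso ((DerivedCategory.Qh ⋙ DRing.RgammaI I).map (q.map g)) := by
      show IsIso ((DRing.RgammaI I).map (DerivedCategory.Qh.map (q.map g)))
      infer_instance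
    exact IsIso.of_isIso_comp_right _ ((DerivedCategory.Qh ⋙ DRing.RgammaI I).map (q.map g))
  haveI : IsIso (((DRing.gammaI I).mapHomologicalComplex (ComplexShape.up ℤ)).map (gammaIncl I J)) := by
    haveI : ∀ n, IsIso ((((DRing.gammaI I).mapHomologicalComplex (ComplexShape.up ℤ)).map (gammaIncl I J)).f n) :=
      fun n => (ConcreteCategory.isIso_iff_bijective _).2
        ⟨fun a b h => Subtype.ext (Subtype.ext (congrArg Subtype.val h)), fun v =>
          ⟨⟨⟨v.1, v.2⟩, by obtain ⟨k, hk⟩ := v.2; exact ⟨k, fun a ha => Subtype.ext (hk a ha)⟩⟩, rfl⟩⟩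
    exact HomologicalComplex.Hom.isIso_of_components _
  haveI h3 : IsIso ((DRing.RgammaI I).map (DerivedCategory.Q.map (gammaIncl I J))) := by
    haveI : IsIso ((DRing.gammaIKh I).map (q.map (gammaIncl I J))) := by
      haveI h6 : IsIso ((q ⋙ DerivedCategory.Qh).map
          (((DRing.gammaI I).mapHomologicalComplex (ComplexShape.up ℤ)).map (gammaIncl I J))) := inferInstance
      exact h6
    haveI : IsIso (unit.app (q.obj G) ≫ (DerivedCategory.Qh ⋙ DRing.RgammaI I).map (q.map (gammaIncl I J))) := by
      rw [← unit.naturality (q.map (gammaIncl I J))]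
      infer_instance
    exact IsIso.of_isIso_comp_left (unit.app (q.obj G))
      ((DerivedCategory.Qh ⋙ DRing.RgammaI I).map (q.map (gammaIncl I J)))
  have h2 : IsIso ((DRing.RgammaI I).map ((DRing.gammaIτ I).app (q.obj J))) := by
    show IsIso ((DRing.RgammaI I).map ((DRing.gammaIτ0 I).app J))
    unfold DRing.gammaIτ0
    simp only [NatTrans.comp_app, Functor.associator_inv_app, Functor.associator_hom_app, Functor.whiskerRight_app,
      Functor.leftUnitor_hom_app, Functor.map_comp, CategoryTheory.Functor.map_id]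
    haveI : IsIso ((DRing.RgammaI I).map ((q ⋙ DerivedCategory.Qh).map
        ((NatTrans.mapHomologicalComplex (DRing.gammaIι I) (ComplexShape.up ℤ)).app J))) := by
      have h4 : IsIso ((DRing.RgammaI I).map ((q ⋙ DerivedCategory.Qh).map (gammaIncl I J))) := h3
      rw [Functor.map_comp, Functor.map_comp] at h4
      exact IsIso.of_isIso_comp_right _ ((DRing.RgammaI I).map ((q ⋙ DerivedCategory.Qh).map
          ((Functor.mapHomologicalComplexIdIso (ModuleCat.{u} A) (ComplexShape.up ℤ)).hom.app J)))
    repeat' (first | infer_instance | exact IsIso.id _ | exact Functor.map_isIso _ _ | exact (DRing.RgammaI I).mapIso (Iso.refl _) |>.isIso_hom | refine IsIso.comp_isIso' ?_ ?_)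
  have hfac := (DRing.RgammaI I).rightDerived_fac_app unit W (𝟭 (Dual.D A))
    (DRing.gammaIτ I ≫ (Functor.rightUnitor _).inv) (q.obj J)
  have h5 : IsIso ((DRing.RgammaI I).map ((DRing.RgammaIε I).app (DerivedCategory.Qh.obj (q.obj J)))) := by
    haveI : IsIso ((DRing.RgammaI I).map ((DRing.gammaIτ I ≫ (Functor.rightUnitor _).inv).app (q.obj J))) := by
      rw [NatTrans.comp_app, Functor.map_comp]
      infer_instance
    haveI : IsIso ((DRing.RgammaI I).map (unit.app (q.obj J)) ≫
        (DRing.RgammaI I).map ((DRing.RgammaIε I).app (DerivedCategory.Qh.obj (q.obj J)))) := by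
      rw [← Functor.map_comp, show unit.app _ ≫ (DRing.RgammaIε I).app _ = _ from hfac]
      infer_instance
    exact IsIso.of_isIso_comp_left ((DRing.RgammaI I).map (unit.app (q.obj J))) _
  exact (NatTrans.isIso_app_iff_of_iso (Functor.whiskerRight (DRing.RgammaIε I) (DRing.RgammaI I)) eK).1 h5

abbrev tors : ObjectProperty (Dual.D A) := fun L : Dual.D A => ∀ i : ℤ, LocCoh.IsPowerTorsion I (Dual.HD A L i)

theorem comp_ε_bijective (L K : Dual.D A) (hL : tors I L) :
    Function.Bijective (fun g : L ⟶ (DRing.RgammaI I).obj K => g ≫ (DRing.RgammaIε I).app K) := by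
  haveI := isIso_RgammaIε_app I L hL
  haveI := isIso_map_ε I K
  constructor
  · intro a b hab
    have h1 : (DRing.RgammaI I).map a = (DRing.RgammaI I).map b := by
      have := congrArg (DRing.RgammaI I).map hab
      simp only [Functor.map_comp] at this
      exact (cancel_mono _).1 this
    rw [← cancel_epi ((DRing.RgammaIε I).app L)]
    have ha := (DRing.RgammaIε I).naturality a
    have hb := (DRing.RgammaIε I).naturality b
    simp only [Functor.id_map, Functor.id_obj] at ha hb ⊢
    rw [← ha, ← hb, h1]
  · intro f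
    refine ⟨inv ((DRing.RgammaIε I).app L) ≫ (DRing.RgammaI I).map f, ?_⟩
    have hf := (DRing.RgammaIε I).naturality f
    simp only [Functor.id_map, Functor.id_obj] at hf
    show (_ ≫ _) ≫ _ = f
    rw [Category.assoc, hf, IsIso.inv_hom_id_assoc]

def homEquiv (L : (tors I).FullSubcategory) (K : Dual.D A) :
    (L ⟶ (ObjectProperty.lift (tors I) (DRing.RgammaI I) (fun K => torsion_RgammaI I K)).obj K) ≃ (L.obj ⟶ K) :=
  Equiv.ofBijective (fun g => g.hom ≫ (DRing.RgammaIε I).app K)
    (show Function.Injective _ ∧ Function.Surjective _ from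
      ⟨fun _ _ h => ObjectProperty.hom_ext _ ((comp_ε_bijective I L.obj K L.property).1 h), fun f =>
        let ⟨g, hg⟩ := (comp_ε_bijective I L.obj K L.property).2 f
        ⟨ObjectProperty.homMk g, hg⟩⟩)

theorem homEquiv_apply {L : (tors I).FullSubcategory} {K : Dual.D A}
    (g : L ⟶ (ObjectProperty.lift (tors I) (DRing.RgammaI I) (fun K => torsion_RgammaI I K)).obj K) :
    homEquiv I L K g = g.hom ≫ (DRing.RgammaIε I).app K := rfl

theorem homEquiv_naturality {L : (tors I).FullSubcategory} {K K' : Dual.D A}
    (g : L ⟶ (ObjectProperty.lift (tors I) (DRing.RgammaI I) (fun K => torsion_RgammaI I K)).obj K) (h : K ⟶ K') :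
    homEquiv I L K' (g ≫ (ObjectProperty.lift (tors I) (DRing.RgammaI I) (fun K => torsion_RgammaI I K)).map h) =
      homEquiv I L K g ≫ h := by
  have h1 := (DRing.RgammaIε I).naturality h
  simp only [Functor.id_map, Functor.id_obj] at h1
  show (g.hom ≫ (DRing.RgammaI I).map h) ≫ (DRing.RgammaIε I).app K' = (g.hom ≫ (DRing.RgammaIε I).app K) ≫ h
  rw [Category.assoc, Category.assoc, h1]

def adj : ObjectProperty.ι (tors I) ⊣
    ObjectProperty.lift (tors I) (DRing.RgammaI I) (fun K => torsion_RgammaI I K) :=
  Adjunction.mkOfHomEquiv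
    { homEquiv := fun L K => (homEquiv I L K).symm
      homEquiv_naturality_left_symm := fun {L L' K} a b =>
        show (a ≫ b).hom ≫ (DRing.RgammaIε I).app K = a.hom ≫ b.hom ≫ (DRing.RgammaIε I).app K from
          Category.assoc a.hom b.hom ((DRing.RgammaIε I).app K)
      homEquiv_naturality_right := fun {L K K'} f h => by
        refine (Equiv.symm_apply_eq _).2 ?_
        exact ((homEquiv_naturality I _ h).trans (congrArg (fun z => z ≫ h) (Equiv.apply_symm_apply _ f))).symm }

end Groth.Agent.TorsCoreflLib
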